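import Cfsg.Agent.H679.Lim.CentreMod
import Cfsg.Agent.H234.Lim.Comp
import Cfsg.Agent.H95.Lim.Local

/-!
# S5242, GA2: the piece `{P | J(P) = X}`, `X = J(X)` centric
-/

set_option autoImplicit false

namespace Cfsg.Agent.H679.Lim

open MulAction Cfsg.Agent.H539.Lim Cfsg.Agent.H835.Lim

universe u v w

section

variable {G : Type u} [Group G]

/-! ### orders -/

theorem card_inf_mul_relIndex [Finite G] (H K : Subgroup G) :
    Nat.card ↥(H ⊓ K) * H.relIndex K = Nat.card K := by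
  have h := Subgroup.relIndex_mul_relIndex (⊥ : Subgroup G) (H ⊓ K) K bot_le inf_le_right
  rw [Subgroup.relIndex_bot_left, Subgroup.inf_relIndex_right, Subgroup.relIndex_bot_left] at h
  exact h

theorem card_mul_le [Finite G] (B E : Subgroup G) :
    Nat.card B * Nat.card E ≤ Nat.card ↥(B ⊓ E) * Nat.card ↥(B ⊔ E) := by
  have h1 := card_inf_mul_relIndex E B
  have h2 := card_inf_mul_relIndex E (B ⊔ E)
  have h3 : E ⊓ (B ⊔ E) = E := inf_eq_left.2 le_sup_right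
  rw [h3] at h2
  have h4 : E.relIndex B ≤ E.relIndex (B ⊔ E) :=
    Subgroup.relIndex_le_of_le_right le_sup_left (by
      intro h0
      rw [h0, mul_zero] at h2
      exact (Nat.card_pos (α := ↥(B ⊔ E))).ne h2)
  rw [inf_comm] at h1
  calc Nat.card B * Nat.card E = (Nat.card ↥(B ⊓ E) * E.relIndex B) * Nat.card E := by rw [h1]
    _ ≤ (Nat.card ↥(B ⊓ E) * E.relIndex (B ⊔ E)) * Nat.card E := by gcongr
    _ = Nat.card ↥(B ⊓ E) * (Nat.card E * E.relIndex (B ⊔ E)) := by ring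
    _ = Nat.card ↥(B ⊓ E) * Nat.card ↥(B ⊔ E) := by rw [h2]

/-! ### the inequality for a maximal abelian subgroup -/

/-- the centralizer of `B` in `Z(X)` -/
def ez (X B : Subgroup G) : Subgroup G := zz X ⊓ Subgroup.centralizer (B : Set G)

theorem ez_ineq [Finite G] {X P A B : Subgroup G} (hXP : X ≤ P) (hA : A ≤ P) (hAb : IsAb A)
    (hc : Nat.card A = dmax P) (hBA : B ≤ A) :
    Nat.card B * Nat.card (ez X B) ≤ Nat.card A * Nat.card (ez X A) := by
  have h1 : B ⊓ ez X B ≤ ez X A := by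
    rintro b ⟨hb, hb'⟩
    refine ⟨hb'.1, Subgroup.mem_centralizer_iff.2 fun a ha => ?_⟩
    exact hAb a ha b (hBA hb)
  have h2 : IsAb (B ⊔ ez X B) := by
    have hBB : B ≤ Subgroup.centralizer (B : Set G) := by
      intro b hb
      rw [Subgroup.mem_centralizer_iff]
      intro a ha
      exact hAb a (hBA ha) b (hBA hb)
    have hEB : ez X B ≤ Subgroup.centralizer (B : Set G) := inf_le_right
    have hEE : ez X B ≤ Subgroup.centralizer (ez X B : Set G) := by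
      intro b hb
      rw [Subgroup.mem_centralizer_iff]
      intro a ha
      exact ha.1.2 b hb.1.1
    have h3 : B ⊔ ez X B ≤ Subgroup.centralizer ((B ⊔ ez X B : Subgroup G) : Set G) := by
      apply sup_le
      · rw [Subgroup.le_centralizer_iff]
        exact sup_le hBB hEB
      · rw [Subgroup.le_centralizer_iff]
        refine sup_le ?_ hEE
        rw [Subgroup.le_centralizer_iff]
        exact hEB
    intro a ha b hb
    exact (Subgroup.mem_centralizer_iff.1 (h3 hb)) a ha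
  have h4 : B ⊔ ez X B ≤ P := sup_le (hBA.trans hA) ((inf_le_left.trans (zz_le X)).trans hXP)
  calc Nat.card B * Nat.card (ez X B) ≤ Nat.card ↥(B ⊓ ez X B) * Nat.card ↥(B ⊔ ez X B) := card_mul_le _ _
    _ ≤ Nat.card (ez X A) * Nat.card A := by
      apply Nat.mul_le_mul
      · exact Subgroup.card_le_of_le h1
      · rw [hc]
        exact le_dmax h4 h2
    _ = Nat.card A * Nat.card (ez X A) := mul_comm _ _

theorem card_dfix [Finite G] (X : Subgroup G) (B : Subgroup ↥(Nz X)) :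
    Nat.card ↥(DFix B (ZM X)) = Nat.card (ez X (B.map (Nz X).subtype)) := by
  refine Nat.card_congr ⟨fun d => ⟨(d : ZM X).val, (d : ZM X).val_mem, ?_⟩, fun z =>
    ⟨ZM.mk (z : G) z.2.1, ?_⟩, fun _ => rfl, fun _ => rfl⟩
  · refine Subgroup.mem_centralizer_iff.2 ?_
    rintro _ ⟨b, hb, rfl⟩
    exact ((ZM.smul_eq_iff b (d : ZM X)).1 (d.2 b hb)).symm
  · intro b hb
    rw [ZM.smul_eq_iff]
    exact (Subgroup.mem_centralizer_iff.1 z.2.2 b ⟨b, hb, rfl⟩).symm

theorem dfix_sup {D : Type w} [AddCommGroup D] [DistribMulAction G D] (B Y : Subgroup G)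
    (hY : ∀ u ∈ Y, ∀ d : D, u • d = d) : DFix (B ⊔ Y) D = DFix B D := by
  apply le_antisymm
  · intro d hd u hu
    exact hd u ((le_sup_left : B ≤ B ⊔ Y) hu)
  · intro d hd u hu
    have h : B ⊔ Y ≤ stabilizer G d := sup_le (fun b hb => hd b hb) (fun y hy => hY y hy d)
    exact h hu

/-- the modular law for a normal subgroup -/
theorem eq_inf_sup {A B Y : Subgroup G} [Y.Normal] (hYB : Y ≤ B) (hB : B ≤ A ⊔ Y) : B = (B ⊓ A) ⊔ Y := by
  apply le_antisymm
  · intro b hb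
    obtain ⟨a, ha, y, hy, rfl⟩ := Subgroup.mem_sup_of_normal_right.1 (hB hb)
    apply Subgroup.mul_mem_sup _ hy
    refine ⟨?_, ha⟩
    have := B.mul_mem hb (B.inv_mem (hYB hy))
    simpa using this
  · exact sup_le inf_le_left hYB

/-- the reduction of the inequality for `A Y` to `A` -/
theorem boy_of [Finite G] {D : Type w} [AddCommGroup D] [DistribMulAction G D] (Y A : Subgroup G) [Y.Normal]
    (hY : ∀ u ∈ Y, ∀ d : D, u • d = d)
    (hA : ∀ B : Subgroup G, B ≤ A → Nat.card B * Nat.card (DFix B D) ≤ Nat.card A * Nat.card (DFix A D))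
    (B : Subgroup G) (hYB : Y ≤ B) (hB : B ≤ A ⊔ Y) :
    Nat.card B * Nat.card (DFix B D) ≤ Nat.card ↥(A ⊔ Y) * Nat.card (DFix (A ⊔ Y) D) := by
  have e1 := eq_inf_sup hYB hB
  have h1 := card_inf_mul_relIndex Y (A ⊔ Y)
  rw [inf_eq_left.2 (le_sup_right : Y ≤ A ⊔ Y), Subgroup.relIndex_sup_right] at h1
  have h2 := card_inf_mul_relIndex Y A
  have h3 := card_inf_mul_relIndex Y ((B ⊓ A) ⊔ Y)
  rw [inf_eq_left.2 (le_sup_right : Y ≤ (B ⊓ A) ⊔ Y), Subgroup.relIndex_sup_right] at h3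
  have h4 := card_inf_mul_relIndex Y (B ⊓ A)
  have h5 : Y ⊓ (B ⊓ A) = Y ⊓ A := by rw [← inf_assoc, inf_eq_left.2 hYB]
  rw [h5] at h4
  have h6 := hA (B ⊓ A) inf_le_right
  rw [e1, dfix_sup _ _ hY, dfix_sup _ _ hY, ← h1, ← h3]
  rw [← h4, ← h2] at h6
  have h7 : 0 < Nat.card ↥(Y ⊓ A) := Nat.card_pos
  have h8 : Y.relIndex (B ⊓ A) * Nat.card ↥(DFix (B ⊓ A) D) ≤ Y.relIndex A * Nat.card ↥(DFix A D) := by
    apply Nat.le_of_mul_le_mul_left _ h7
    calc Nat.card ↥(Y ⊓ A) * (Y.relIndex (B ⊓ A) * Nat.card ↥(DFix (B ⊓ A) D)) =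
        Nat.card ↥(Y ⊓ A) * Y.relIndex (B ⊓ A) * Nat.card ↥(DFix (B ⊓ A) D) := by ring
      _ ≤ Nat.card ↥(Y ⊓ A) * Y.relIndex A * Nat.card ↥(DFix A D) := h6
      _ = Nat.card ↥(Y ⊓ A) * (Y.relIndex A * Nat.card ↥(DFix A D)) := by ring
  calc Nat.card Y * Y.relIndex (B ⊓ A) * Nat.card ↥(DFix (B ⊓ A) D) =
      Nat.card Y * (Y.relIndex (B ⊓ A) * Nat.card ↥(DFix (B ⊓ A) D)) := by ring
    _ ≤ Nat.card Y * (Y.relIndex A * Nat.card ↥(DFix A D)) := Nat.mul_le_mul_left _ h8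
    _ = Nat.card Y * Y.relIndex A * Nat.card ↥(DFix A D) := by ring

theorem comm_sup (Y A : Subgroup G) [Y.Normal] (hA : IsAb A) :
    ∀ a ∈ A ⊔ Y, ∀ b ∈ A ⊔ Y, a * b * a⁻¹ * b⁻¹ ∈ Y := by
  intro a ha b hb
  obtain ⟨a₁, ha₁, y, hy, rfl⟩ := Subgroup.mem_sup_of_normal_right.1 ha
  obtain ⟨b₁, hb₁, z, hz, rfl⟩ := Subgroup.mem_sup_of_normal_right.1 hb
  rw [← QuotientGroup.eq_one_iff]
  have hy' : ((y : G) : G ⧸ Y) = 1 := (QuotientGroup.eq_one_iff y).2 hy
  have hz' : ((z : G) : G ⧸ Y) = 1 := (QuotientGroup.eq_one_iff z).2 hz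
  have hab : (a₁ : G ⧸ Y) * b₁ = b₁ * a₁ := by
    rw [← QuotientGroup.mk_mul, ← QuotientGroup.mk_mul, hA a₁ ha₁ b₁ hb₁]
  simp only [QuotientGroup.mk_mul, QuotientGroup.mk_inv, hy', hz', mul_one]
  rw [hab]
  group

/-! ### the Thompson subgroup of `P` and of the subgroup generated by the offenders -/

instance subgroupOf_normal (X : Subgroup G) : (X.subgroupOf (Nz X)).Normal := by
  refine ⟨fun u hu g => ?_⟩
  rw [Subgroup.mem_subgroupOf] at hu ⊢
  exact (Subgroup.mem_normalizer_iff.1 g.2 u).1 hu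

theorem map_subgroupOf (X : Subgroup G) : (X.subgroupOf (Nz X)).map (Nz X).subtype = X :=
  Subgroup.map_subgroupOf_eq_of_le Subgroup.le_normalizer

/-- if `J(P) ≠ X` there is a maximal abelian subgroup of `P` not contained in `X` -/
theorem exists_ab [Finite G] {X P : Subgroup G} (hX : JT X = X) (hXP : X ≤ P) (h : JT P ≠ X) :
    ∃ A ≤ P, IsAb A ∧ Nat.card A = dmax P ∧ ¬ A ≤ X := by
  by_contra hcon
  push Not at hcon
  have h1 : JT P ≤ X := sSup_le fun A hA => hcon A hA.1 hA.2.1 hA.2.2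
  have h2 : dmax X = dmax P := dmax_of_JT_le h1 hXP
  apply h
  apply le_antisymm h1
  calc X = JT X := hX.symm
    _ ≤ JT P := JT_mono hXP h2

theorem jt_of_offenders [Finite G] {X : Subgroup G} (hX : JT X = X) (P : Subgroup ↥(Nz X))
    (hXP : X.subgroupOf (Nz X) ≤ P)
    (h : JT ((sSup {A : Subgroup ↥(Nz X) | A ≤ P ∧ (X.subgroupOf (Nz X) ≤ A ∧
      (∀ a ∈ A, ∀ b ∈ A, a * b * a⁻¹ * b⁻¹ ∈ X.subgroupOf (Nz X)) ∧
      ∀ B : Subgroup ↥(Nz X), X.subgroupOf (Nz X) ≤ B → B ≤ A →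
        Nat.card B * Nat.card (DFix B (ZM X)) ≤ Nat.card A * Nat.card (DFix A (ZM X)))}).map
          (Nz X).subtype) = X) :
    JT (P.map (Nz X).subtype) = X := by
  by_contra hne
  set J := sSup {A : Subgroup ↥(Nz X) | A ≤ P ∧ (X.subgroupOf (Nz X) ≤ A ∧
      (∀ a ∈ A, ∀ b ∈ A, a * b * a⁻¹ * b⁻¹ ∈ X.subgroupOf (Nz X)) ∧
      ∀ B : Subgroup ↥(Nz X), X.subgroupOf (Nz X) ≤ B → B ≤ A →
        Nat.card B * Nat.card (DFix B (ZM X)) ≤ Nat.card A * Nat.card (DFix A (ZM X)))} with hJ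
  have hXP' : X ≤ P.map (Nz X).subtype := by
    have := Subgroup.map_mono (f := (Nz X).subtype) hXP
    rwa [map_subgroupOf] at this
  obtain ⟨A, hAP, hAb, hAc, hAX⟩ := exists_ab hX hXP' hne
  have hAN : A ≤ Nz X := hAP.trans (by
    rintro _ ⟨y, -, rfl⟩
    exact y.2)
  have hAm : (A.subgroupOf (Nz X)).map (Nz X).subtype = A := Subgroup.map_subgroupOf_eq_of_le hAN
  have hAP' : A.subgroupOf (Nz X) ≤ P := by
    intro a ha
    obtain ⟨y, hy, hya⟩ := hAP (Subgroup.mem_subgroupOf.1 ha)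
    have : y = a := Subtype.ext hya
    rwa [← this]
  have hAb' : IsAb (A.subgroupOf (Nz X)) := fun a ha b hb =>
    Subtype.ext (hAb a (Subgroup.mem_subgroupOf.1 ha) b (Subgroup.mem_subgroupOf.1 hb))
  have htriv : ∀ u ∈ X.subgroupOf (Nz X), ∀ d : ZM X, u • d = d := by
    intro u hu d
    rw [ZM.smul_eq_iff]
    exact d.val_mem.2 _ (Subgroup.mem_subgroupOf.1 hu)
  have hmem : A.subgroupOf (Nz X) ⊔ X.subgroupOf (Nz X) ≤ J := by
    apply le_sSup
    refine ⟨sup_le hAP' hXP, le_sup_right, comm_sup _ _ hAb', ?_⟩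
    apply boy_of _ _ htriv
    intro B hB
    rw [card_dfix, card_dfix, hAm]
    have h1 : B.map (Nz X).subtype ≤ A := by
      rw [← hAm]
      exact Subgroup.map_mono hB
    have h2 := ez_ineq hXP' hAP hAb hAc h1
    rwa [Subgroup.card_map_of_injective (Nz X).subtype_injective,
      ← hAm, Subgroup.card_map_of_injective (Nz X).subtype_injective, hAm] at h2
  have hJP : J ≤ P := sSup_le fun _ hA => hA.1
  have hAJ : A ≤ J.map (Nz X).subtype := by
    have h1 := Subgroup.map_mono (f := (Nz X).subtype) (le_sup_left.trans hmem)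
    rwa [hAm] at h1
  have hd : dmax (J.map (Nz X).subtype) = dmax (P.map (Nz X).subtype) := by
    apply le_antisymm (dmax_mono (Subgroup.map_mono hJP))
    rw [← hAc]
    exact le_dmax hAJ hAb
  apply hAX
  rw [← h]
  exact le_JT hAJ hAb (hAc.trans hd.symm)

end

section

variable {G : Type u} [Group G] {Ω : Type v} [MulAction G Ω]

/-- the comparison with the module `Z(X)` -/
theorem van_piece' [Finite G] {p : ℕ} (hΩ : PSet p G Ω) (X : Subgroup G) {n : ℕ}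
    (h : Van ↥(Nz X) (FixPt X Ω) (ZM X) (Pc p X) n) :
    ((Coef.Z p G).restr (Nz X)).Van (FixPt X Ω)
      {Q : Subgroup ↥(Nz X) | Centric p (Q.map (Nz X).subtype) ∧ JT (Q.map (Nz X).subtype) = X} n :=
  van_piece hΩ X (Cfsg.Agent.H234.Lim.Coef.van_of_mod _ (pc_ordConnected p X) (pc_inv p X) zEquiv zEquiv_nat) h

/-- GA2 from `starY` for `(N(X), Y = X, Z(X))` -/
theorem piece_centric_aux {p : ℕ} [Finite G] (hΩ : PSet p G Ω) (X : Subgroup G)
    (hX : JT X = X) (hXc : Centric p X) (n : ℕ)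
    (hstar : ∀ R : Set (Subgroup ↥(Nz X)), IsInv R → X.subgroupOf (Nz X) ∈ R →
      (∀ P ∈ R, ∀ Q : Subgroup ↥(Nz X), X.subgroupOf (Nz X) ≤ Q → Q ≤ P → Q ∈ R) →
      (∀ P : Subgroup ↥(Nz X), IsPGroup p P → X.subgroupOf (Nz X) ≤ P →
        sSup {A : Subgroup ↥(Nz X) | A ≤ P ∧ (X.subgroupOf (Nz X) ≤ A ∧
          (∀ a ∈ A, ∀ b ∈ A, a * b * a⁻¹ * b⁻¹ ∈ X.subgroupOf (Nz X)) ∧
          ∀ B : Subgroup ↥(Nz X), X.subgroupOf (Nz X) ≤ B → B ≤ A →
            Nat.card B * Nat.card (DFix B (ZM X)) ≤ Nat.card A * Nat.card (DFix A (ZM X)))} ∈ R → P ∈ R) →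
      Van ↥(Nz X) (FixPt X Ω) (ZM X) R (n + 2)) :
    ((Coef.Z p G).restr (Nz X)).Van (FixPt X Ω)
      {Q : Subgroup ↥(Nz X) | Centric p (Q.map (Nz X).subtype) ∧ JT (Q.map (Nz X).subtype) = X} (n + 2) := by
  apply van_piece' hΩ X
  apply van_congr (V := {P : Subgroup ↥(Nz X) | JT (P.map (Nz X).subtype) = X}) _ (hstar _ _ _ _ _)
  · intro k x
    refine ⟨fun h => ⟨⟨?_, h⟩, isPGroup_st_fixPt hΩ X x⟩, fun h => h.1.2⟩
    have h1 := Subgroup.map_mono (f := (Nz X).subtype) (le_st_fixPt X x)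
    rw [map_subgroupOf] at h1
    exact centric_mono h1 hXc
  · intro g P hP
    show JT ((cj g P).map (Nz X).subtype) = X
    rw [map_cj, (JT_conj _ _).1, show JT (P.map (Nz X).subtype) = X from hP, cj_self]
  · show JT ((X.subgroupOf (Nz X)).map (Nz X).subtype) = X
    rw [map_subgroupOf, hX]
  · intro P hP Q hXQ hQP
    have hP' : JT (P.map (Nz X).subtype) = X := hP
    have h1 := Subgroup.map_mono (f := (Nz X).subtype) hXQ
    rw [map_subgroupOf] at h1
    show JT (Q.map (Nz X).subtype) = X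
    rw [JT_sandwich ((le_of_eq hP').trans h1) (Subgroup.map_mono hQP), hP']
  · intro P _ hXP hJ
    exact jt_of_offenders hX P hXP hJ

end

end Cfsg.Agent.H679.Lim
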