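import Cfsg.Agent.H539.Lim.DefsZ
import Cfsg.Agent.H835.Lim.Thompson

/-!
# S5242, GA: the centre `Z(X)` as a module for `N(X)`, and the comparison of the centre functor on
`{P | P centric, J(P) = X}` with the fixed point functor of `Z(X)`
-/

set_option autoImplicit false

namespace Cfsg.Agent.H679.Lim

open MulAction Cfsg.Agent.H539.Lim Cfsg.Agent.H835.Lim

universe u v w

/-! ### change of the collection on subgroups which are not stabilizers -/

section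

variable {G : Type u} [Group G] {Ω : Type v} [MulAction G Ω]

theorem coef_coch_congr (C : Coef.{u, w} G) {V V' : Set (Subgroup G)}
    (h : ∀ (k : ℕ) (x : Fin (k + 1) → Ω), st G x ∈ V ↔ st G x ∈ V') {k : ℕ}
    {c : ∀ x : Fin (k + 1) → Ω, C.M (st G x)} (hc : C.IsCoch V c) : C.IsCoch V' c :=
  ⟨hc.equiv, fun x hx => hc.supp x (fun h1 => hx ((h k x).1 h1))⟩

theorem coef_van_congr (C : Coef.{u, w} G) {V V' : Set (Subgroup G)}
    (h : ∀ (k : ℕ) (x : Fin (k + 1) → Ω), st G x ∈ V ↔ st G x ∈ V') {n : ℕ} (hv : C.Van Ω V n) :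
    C.Van Ω V' n := by
  have h' : ∀ (k : ℕ) (x : Fin (k + 1) → Ω), st G x ∈ V' ↔ st G x ∈ V := fun k x => (h k x).symm
  cases n with
  | zero =>
    intro c hc hcoc
    exact hv c (coef_coch_congr C h' hc) (fun x hx => hcoc x ((h _ x).1 hx))
  | succ n =>
    intro c hc hcoc
    obtain ⟨b, hb, hcb⟩ := hv c (coef_coch_congr C h' hc) (fun x hx => hcoc x ((h _ x).1 hx))
    exact ⟨b, coef_coch_congr C h hb, fun x hx => hcb x ((h _ x).2 hx)⟩

theorem coch_congr {D : Type w} [AddCommGroup D] [DistribMulAction G D] {V V' : Set (Subgroup G)}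
    (h : ∀ (k : ℕ) (x : Fin (k + 1) → Ω), st G x ∈ V ↔ st G x ∈ V') {k : ℕ}
    {c : (Fin (k + 1) → Ω) → D} (hc : IsCoch V c) : IsCoch V' c :=
  ⟨hc.smul, fun x hx => hc.supp x (fun h1 => hx ((h k x).1 h1))⟩

theorem van_congr {D : Type w} [AddCommGroup D] [DistribMulAction G D] {V V' : Set (Subgroup G)}
    (h : ∀ (k : ℕ) (x : Fin (k + 1) → Ω), st G x ∈ V ↔ st G x ∈ V') {n : ℕ} (hv : Van G Ω D V n) :
    Van G Ω D V' n := by
  have h' : ∀ (k : ℕ) (x : Fin (k + 1) → Ω), st G x ∈ V' ↔ st G x ∈ V := fun k x => (h k x).symm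
  cases n with
  | zero =>
    intro c hc hcoc
    exact hv c (coch_congr h' hc) (fun x hx => hcoc x ((h _ x).1 hx))
  | succ n =>
    intro c hc hcoc
    obtain ⟨b, hb, hcb⟩ := hv c (coch_congr h' hc) (fun x hx => hcoc x ((h _ x).1 hx))
    exact ⟨b, coch_congr h hb, fun x hx => hcb x ((h _ x).2 hx)⟩

end

/-! ### the module `Z(X)` -/

section

variable {G : Type u} [Group G]

/-- the centre of `X` as a subgroup of `G` -/
def zz (X : Subgroup G) : Subgroup G where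
  carrier := {z | z ∈ X ∧ ∀ u ∈ X, z * u = u * z}
  one_mem' := ⟨X.one_mem, fun u _ => by simp⟩
  mul_mem' := by
    rintro a b ⟨ha, ha'⟩ ⟨hb, hb'⟩
    exact ⟨X.mul_mem ha hb, fun u hu => by rw [mul_assoc, hb' u hu, ← mul_assoc, ha' u hu, mul_assoc]⟩
  inv_mem' := by
    rintro a ⟨ha, ha'⟩
    refine ⟨X.inv_mem ha, fun u hu => ?_⟩
    have := ha' u hu
    calc a⁻¹ * u = a⁻¹ * (u * a) * a⁻¹ := by group
      _ = a⁻¹ * (a * u) * a⁻¹ := by rw [this]
      _ = u * a⁻¹ := by group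

theorem mem_zz {X : Subgroup G} {z : G} : z ∈ zz X ↔ z ∈ X ∧ ∀ u ∈ X, z * u = u * z := Iff.rfl

theorem zz_le (X : Subgroup G) : zz X ≤ X := fun _ h => h.1

instance (X : Subgroup G) : CommGroup ↥(zz X) :=
  { (inferInstance : Group ↥(zz X)) with
    mul_comm := fun a b => Subtype.ext (a.2.2 b.1 b.2.1) }

/-- the centre of `X`, written additively -/
def ZM (X : Subgroup G) : Type u := Additive ↥(zz X)

instance (X : Subgroup G) : AddCommGroup (ZM X) := inferInstanceAs (AddCommGroup (Additive ↥(zz X)))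

instance [Finite G] (X : Subgroup G) : Finite (ZM X) := inferInstanceAs (Finite ↥(zz X))

/-- the element of `G` -/
def ZM.val {X : Subgroup G} (z : ZM X) : G := ((Additive.toMul (α := ↥(zz X)) z : ↥(zz X)) : G)

/-- the module element of a central element -/
def ZM.mk {X : Subgroup G} (z : G) (hz : z ∈ zz X) : ZM X := Additive.ofMul (⟨z, hz⟩ : ↥(zz X))

theorem ZM.val_mk {X : Subgroup G} (z : G) (hz : z ∈ zz X) : (ZM.mk z hz).val = z := rfl

theorem ZM.val_mem {X : Subgroup G} (z : ZM X) : z.val ∈ zz X := (Additive.toMul (α := ↥(zz X)) z).2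

theorem ZM.ext {X : Subgroup G} {a b : ZM X} (h : a.val = b.val) : a = b :=
  congrArg Additive.ofMul (Subtype.ext h : Additive.toMul (α := ↥(zz X)) a = Additive.toMul (α := ↥(zz X)) b)

theorem ZM.val_add {X : Subgroup G} (a b : ZM X) : (a + b).val = a.val * b.val := rfl

theorem ZM.val_zero {X : Subgroup G} : (0 : ZM X).val = 1 := rfl

theorem ZM.val_nsmul {X : Subgroup G} (k : ℕ) (a : ZM X) : (k • a).val = a.val ^ k := by
  induction k with
  | zero => rw [zero_smul, pow_zero, ZM.val_zero]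
  | succ k ih => rw [succ_nsmul, ZM.val_add, ih, pow_succ]

theorem zz_conj {X : Subgroup G} {n : G} (hn : n ∈ Nz X) {z : G} (hz : z ∈ zz X) : n * z * n⁻¹ ∈ zz X := by
  have h1 := Subgroup.mem_normalizer_iff.1 hn
  refine ⟨(h1 z).1 hz.1, fun u hu => ?_⟩
  have h2 : n⁻¹ * u * n ∈ X := by
    have := (Subgroup.mem_normalizer_iff.1 (Subgroup.inv_mem _ hn) u).1 hu
    simpa using this
  have h3 := hz.2 _ h2
  calc n * z * n⁻¹ * u = n * (z * (n⁻¹ * u * n)) * n⁻¹ := by group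
    _ = n * (n⁻¹ * u * n * z) * n⁻¹ := by rw [h3]
    _ = u * (n * z * n⁻¹) := by group

instance instZM (X : Subgroup G) : DistribMulAction ↥(Nz X) (ZM X) where
  smul n z := ZM.mk ((n : G) * z.val * (n : G)⁻¹) (zz_conj n.2 z.val_mem)
  one_smul z := ZM.ext (by
    show ((1 : ↥(Nz X)) : G) * z.val * ((1 : ↥(Nz X)) : G)⁻¹ = z.val
    simp)
  mul_smul a b z := ZM.ext (by
    show ((a * b : ↥(Nz X)) : G) * z.val * ((a * b : ↥(Nz X)) : G)⁻¹ =
      (a : G) * ((b : G) * z.val * (b : G)⁻¹) * (a : G)⁻¹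
    rw [Subgroup.coe_mul]
    group)
  smul_zero a := ZM.ext (by
    show (a : G) * (0 : ZM X).val * (a : G)⁻¹ = (0 : ZM X).val
    rw [ZM.val_zero]
    simp)
  smul_add a x y := ZM.ext (by
    show (a : G) * (x + y).val * (a : G)⁻¹ = ((a : G) * x.val * (a : G)⁻¹) * ((a : G) * y.val * (a : G)⁻¹)
    rw [ZM.val_add]
    group)

theorem ZM.val_smul {X : Subgroup G} (n : ↥(Nz X)) (z : ZM X) : (n • z).val = (n : G) * z.val * (n : G)⁻¹ := rfl

/-- fixed by `n` = commuting with `n` -/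
theorem ZM.smul_eq_iff {X : Subgroup G} (n : ↥(Nz X)) (z : ZM X) : n • z = z ↔ z.val * (n : G) = (n : G) * z.val := by
  constructor
  · intro h
    have h1 := congrArg ZM.val h
    rw [ZM.val_smul] at h1
    calc z.val * (n : G) = ((n : G) * z.val * (n : G)⁻¹) * (n : G) := by rw [h1]
      _ = (n : G) * z.val := by group
  · intro h
    apply ZM.ext
    rw [ZM.val_smul, ← h]
    group

theorem ZM.ptors {p : ℕ} {X : Subgroup G} (hX : IsPGroup p X) : IsPTors p (ZM X) := by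
  intro d
  obtain ⟨k, hk⟩ := hX ⟨d.val, d.val_mem.1⟩
  refine ⟨k, ZM.ext ?_⟩
  rw [ZM.val_nsmul, ZM.val_zero]
  exact congrArg Subtype.val hk

/-! ### the collection -/

/-- the centric `p`-subgroups `P` of `N(X)` with `J(P) = X` -/
def Pc (p : ℕ) (X : Subgroup G) : Set (Subgroup ↥(Nz X)) :=
  {Q | (Centric p (Q.map (Nz X).subtype) ∧ JT (Q.map (Nz X).subtype) = X) ∧ IsPGroup p Q}

theorem centric_mono {p : ℕ} {P Q : Subgroup G} (h : P ≤ Q) (hP : Centric p P) : Centric p Q :=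
  fun u hu hk => h (hP u (fun v hv => hu v (h hv)) hk)

theorem centric_cj {p : ℕ} (g : G) {P : Subgroup G} (hP : Centric p P) : Centric p (cj g P) := by
  intro u hu hk
  refine ⟨g⁻¹ * u * g, hP _ (fun v hv => ?_) ?_, ?_⟩
  · have h1 := hu (g * v * g⁻¹) ⟨v, hv, rfl⟩
    calc g⁻¹ * u * g * v = g⁻¹ * (u * (g * v * g⁻¹)) * g := by group
      _ = g⁻¹ * ((g * v * g⁻¹) * u) * g := by rw [h1]
      _ = v * (g⁻¹ * u * g) := by group
  · obtain ⟨k, hk⟩ := hk
    refine ⟨k, ?_⟩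
    have := conj_pow (a := g⁻¹) (b := u) (i := p ^ k)
    rw [show g⁻¹ * u * g = g⁻¹ * u * g⁻¹⁻¹ by simp, this, hk]
    simp
  · show g * (g⁻¹ * u * g) * g⁻¹ = u
    group

theorem map_cj {X : Subgroup G} (g : ↥(Nz X)) (P : Subgroup ↥(Nz X)) :
    (cj g P).map (Nz X).subtype = cj (g : G) (P.map (Nz X).subtype) := by
  ext x
  constructor
  · rintro ⟨_, ⟨y, hy, rfl⟩, rfl⟩
    exact ⟨(y : G), ⟨y, hy, rfl⟩, rfl⟩
  · rintro ⟨_, ⟨y, hy, rfl⟩, rfl⟩
    exact ⟨g * y * g⁻¹, ⟨y, hy, rfl⟩, rfl⟩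

theorem cj_self {X : Subgroup G} (g : ↥(Nz X)) : cj (g : G) X = X := by
  ext x
  constructor
  · rintro ⟨y, hy, rfl⟩
    exact (Subgroup.mem_normalizer_iff.1 g.2 y).1 hy
  · intro hx
    refine ⟨(g : G)⁻¹ * x * (g : G), ?_, ?_⟩
    · have := (Subgroup.mem_normalizer_iff.1 (Subgroup.inv_mem _ g.2) x).1 hx
      simpa using this
    · show (g : G) * ((g : G)⁻¹ * x * (g : G)) * (g : G)⁻¹ = x
      group

theorem pc_inv [Finite G] (p : ℕ) (X : Subgroup G) : IsInv (Pc p X) := by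
  rintro g P ⟨⟨h1, h2⟩, h3⟩
  refine ⟨⟨?_, ?_⟩, h3.map _⟩
  · rw [map_cj]
    exact centric_cj _ h1
  · rw [map_cj, (JT_conj _ _).1, h2, cj_self]

theorem pc_ordConnected [Finite G] (p : ℕ) (X : Subgroup G) : (Pc p X).OrdConnected := by
  refine ⟨?_⟩
  rintro P ⟨⟨h1, h2⟩, h3⟩ Q ⟨⟨k1, k2⟩, k3⟩ R ⟨hPR, hRQ⟩
  refine ⟨⟨centric_mono (Subgroup.map_mono hPR) h1, ?_⟩, k3.to_le hRQ⟩
  have hX : JT (Q.map (Nz X).subtype) ≤ R.map (Nz X).subtype :=
    ((le_of_eq (k2.trans h2.symm)).trans (JT_le _)).trans (Subgroup.map_mono hPR)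
  rw [JT_sandwich hX (Subgroup.map_mono hRQ), k2]

/-- `Z(P) = Z(X)^P` for `P` centric with `J(P) = X` -/
noncomputable def zEquiv [Finite G] {p : ℕ} {X : Subgroup G} (P : Subgroup ↥(Nz X)) (hP : P ∈ Pc p X) :
    ((Coef.Z p G).restr (Nz X)).M P ≃+ ↥(DFix P (ZM X)) where
  toFun m := ⟨ZM.mk ((Additive.toMul (α := ↥(zc p (P.map (Nz X).subtype))) m : ↥(zc p (P.map (Nz X).subtype))) : G) (by
      have h := (Additive.toMul (α := ↥(zc p (P.map (Nz X).subtype))) m).2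
      have h1 := centralizer_JT (P.map (Nz X).subtype) _ h.1 (fun v hv => h.2.1 v (JT_le _ hv))
      rw [hP.1.2] at h1
      refine ⟨h1, fun u hu => h.2.1 u ?_⟩
      rw [← hP.1.2] at hu
      exact JT_le _ hu), fun u hu => by
      rw [ZM.smul_eq_iff]
      exact (Additive.toMul (α := ↥(zc p (P.map (Nz X).subtype))) m).2.2.1 _ ⟨u, hu, rfl⟩⟩
  invFun d := Additive.ofMul (⟨(d : ZM X).val, by
      have h := (d : ZM X).val_mem
      have h1 : (d : ZM X).val ∈ JT (P.map (Nz X).subtype) := by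
        rw [hP.1.2]
        exact h.1
      refine ⟨JT_le _ h1, ?_, Or.inr ⟨hP.1.1, hP.2.map _⟩⟩
      rintro _ ⟨u, hu, rfl⟩
      exact (ZM.smul_eq_iff u (d : ZM X)).1 (d.2 u hu)⟩ : ↥(zc p (P.map (Nz X).subtype)))
  left_inv m := rfl
  right_inv d := rfl
  map_add' a b := rfl

open Classical in
theorem zEquiv_nat [Finite G] {p : ℕ} {X : Subgroup G} (g : ↥(Nz X)) (P Q : Subgroup ↥(Nz X))
    (h : ∀ u ∈ P, g * u * g⁻¹ ∈ Q) (hP : P ∈ Pc p X) (hQ : Q ∈ Pc p X)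
    (m : ((Coef.Z p G).restr (Nz X)).M Q) :
    ((zEquiv P hP (((Coef.Z p G).restr (Nz X)).τ g P Q h m) : ↥(DFix P (ZM X))) : ZM X) =
      g⁻¹ • ((zEquiv Q hQ m : ↥(DFix Q (ZM X))) : ZM X) := by
  apply ZM.ext
  have hP' : Centric p (P.map (Nz X).subtype) ∧ IsPGroup p (P.map (Nz X).subtype) := ⟨hP.1.1, hP.2.map _⟩
  show (if hP : Centric p (P.map (Nz X).subtype) ∧ IsPGroup p (P.map (Nz X).subtype) then
    (⟨(g : G)⁻¹ * ((Additive.toMul (α := ↥(zc p (Q.map (Nz X).subtype))) m : ↥(zc p (Q.map (Nz X).subtype))) : G) *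
      (g : G), _⟩ : ↥(zc p (P.map (Nz X).subtype))) else 1).1 = _
  rw [dif_pos hP', ZM.val_smul]
  simp
  rfl

end

/-! ### the stabilizers of tuples of `X`-fixed points -/

section

variable {G : Type u} [Group G] {Ω : Type v} [MulAction G Ω]

theorem le_st_fixPt (X : Subgroup G) {k : ℕ} (x : Fin k → FixPt X Ω) :
    X.subgroupOf (Nz X) ≤ st ↥(Nz X) x := by
  intro u hu
  rw [MulAction.mem_stabilizer_iff]
  funext i
  apply Subtype.ext
  exact (x i).2 (Subgroup.mem_subgroupOf.1 hu)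

theorem isPGroup_st_fixPt {p : ℕ} (hΩ : PSet p G Ω) (X : Subgroup G) {k : ℕ} (x : Fin (k + 1) → FixPt X Ω) :
    IsPGroup p ↥(st ↥(Nz X) x) := by
  intro u
  have hu : ((u : ↥(Nz X)) : G) ∈ stabilizer G (x 0).1 := by
    have h1 := u.2
    rw [MulAction.mem_stabilizer_iff] at h1 ⊢
    exact congrArg Subtype.val (congrFun h1 0)
  obtain ⟨m, hm⟩ := hΩ.pgroup (x 0).1 ⟨_, hu⟩
  have h2 : (((u : ↥(Nz X)) : G)) ^ p ^ m = 1 := congrArg Subtype.val hm
  exact ⟨m, Subtype.ext (Subtype.ext h2)⟩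

theorem mem_pc_iff {p : ℕ} (hΩ : PSet p G Ω) (X : Subgroup G) (k : ℕ) (x : Fin (k + 1) → FixPt X Ω) :
    st ↥(Nz X) x ∈ Pc p X ↔ st ↥(Nz X) x ∈ {Q : Subgroup ↥(Nz X) | Centric p (Q.map (Nz X).subtype) ∧
      JT (Q.map (Nz X).subtype) = X} :=
  ⟨fun h => h.1, fun h => ⟨h, isPGroup_st_fixPt hΩ X x⟩⟩

/-- the pieces of the centre functor are fixed point functors (`hmod` is an instance of `Coef.van_of_mod`) -/
theorem van_piece [Finite G] {p : ℕ} (hΩ : PSet p G Ω) (X : Subgroup G) {n : ℕ}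
    (hmod : Van ↥(Nz X) (FixPt X Ω) (ZM X) (Pc p X) n →
      ((Coef.Z p G).restr (Nz X)).Van (FixPt X Ω) (Pc p X) n)
    (h : Van ↥(Nz X) (FixPt X Ω) (ZM X) (Pc p X) n) :
    ((Coef.Z p G).restr (Nz X)).Van (FixPt X Ω)
      {Q : Subgroup ↥(Nz X) | Centric p (Q.map (Nz X).subtype) ∧ JT (Q.map (Nz X).subtype) = X} n :=
  coef_van_congr _ (mem_pc_iff hΩ X) (hmod h)

end

end Cfsg.Agent.H679.Lim
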