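import Cfsg.Agent.H679.Lim.PieceCentric
import Cfsg.Agent.H291.Lim.Star

/-!
# S5242, GA2: `H^{n+2}` of the centre functor on `{P | P centric, J(P) = X}` vanishes, `X = J(X)` centric
-/

set_option autoImplicit false

namespace Cfsg.Agent.H679.Lim

open MulAction Cfsg.Agent.H539.Lim Cfsg.Agent.H835.Lim

universe u v

variable {G : Type u} [Group G] {Ω : Type v} [MulAction G Ω]

/-- GA2 -/
theorem piece_centric {p : ℕ} [Fact p.Prime] [Finite G] [Finite Ω] (hΩ : PSet p G Ω) (X : Subgroup G)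
    (hXp : IsPGroup p X) (hX : JT X = X) (hXc : Centric p X) (n : ℕ) :
    ((Coef.Z p G).restr (Nz X)).Van (FixPt X Ω)
      {Q : Subgroup ↥(Nz X) | Centric p (Q.map (Nz X).subtype) ∧ JT (Q.map (Nz X).subtype) = X} (n + 2) :=
  piece_centric_aux hΩ X hX hXc n fun R hRi hYR hlow hJ =>
    Cfsg.Agent.H291.Lim.starY (Cfsg.Agent.H95.Lim.pset_fixPt hΩ X hXp) (ZM.ptors hXp) (X.subgroupOf (Nz X))
      (fun x _ hu => Subtype.ext (x.2 (Subgroup.mem_subgroupOf.1 hu)))
      (fun u hu d => (ZM.smul_eq_iff u d).2 (d.val_mem.2 _ (Subgroup.mem_subgroupOf.1 hu))) R hRi hYR hlow hJ n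

end Cfsg.Agent.H679.Lim
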